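import Cfsg.Agent.Lib.Forms.Sesq
import Cfsg.Agent.Lib.Symplectic.Basic

/-!
Involutions of the symplectic group in characteristic two: the form `(u, v) ↦ f(u, (a - 1) v)`.
-/

set_option autoImplicit false

namespace Cfsg.Agent.Invol2

open Matrix Module

variable {F : Type*} [Field F] {m : ℕ}

/-- `a - 1` as a linear map. -/
def nil (a : ↥(Matrix.symplecticGroup (Fin m) F)) : (Fin m ⊕ Fin m → F) →ₗ[F] (Fin m ⊕ Fin m → F) :=
  ((a : Matrix (Fin m ⊕ Fin m) (Fin m ⊕ Fin m) F) - 1).mulVecLin

theorem nil_apply (a : ↥(Matrix.symplecticGroup (Fin m) F)) (v : Fin m ⊕ Fin m → F) :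
    nil a v = (a : Matrix (Fin m ⊕ Fin m) (Fin m ⊕ Fin m) F) *ᵥ v - v := by
  simp [nil, Matrix.sub_mulVec]

/-- The form `(u, v) ↦ f(u, (a - 1) v)`. -/
def formB (a : ↥(Matrix.symplecticGroup (Fin m) F)) : LinearMap.BilinForm F (Fin m ⊕ Fin m → F) :=
  LinearMap.mk₂ F (fun u v => Cfsg.sympForm m F u (nil a v))
    (fun u u' v => Symplectic.sympForm_add_left u u' _)
    (fun c u v => Symplectic.sympForm_smul_left c u _)
    (fun u v v' => by simp only [map_add]; exact Symplectic.sympForm_add_right u _ _)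
    (fun c u v => by simp only [map_smul]; exact Symplectic.sympForm_smul_right c u _)

theorem formB_apply (a : ↥(Matrix.symplecticGroup (Fin m) F)) (u v : Fin m ⊕ Fin m → F) :
    formB a u v = Cfsg.sympForm m F u (nil a v) := rfl

theorem eq_zero_of_sympForm {v : Fin m ⊕ Fin m → F} (h : ∀ u, Cfsg.sympForm m F u v = 0) : v = 0 := by
  funext i
  rcases i with i | i
  · have := h (Pi.single (Sum.inr i) 1)
    simp only [Cfsg.sympForm, Symplectic.J_mulVec, single_dotProduct, one_mul, Sum.elim_inr] at this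
    exact this
  · have := h (Pi.single (Sum.inl i) 1)
    simp only [Cfsg.sympForm, Symplectic.J_mulVec, single_dotProduct, one_mul, Sum.elim_inl] at this
    simpa using this

theorem formB_self [CharP F 2] (a : ↥(Matrix.symplecticGroup (Fin m) F)) (v : Fin m ⊕ Fin m → F) :
    formB a v v = Cfsg.sympForm m F v ((a : Matrix (Fin m ⊕ Fin m) (Fin m ⊕ Fin m) F) *ᵥ v) := by
  rw [formB_apply, nil_apply, Symplectic.sympForm_sub_right, Symplectic.sympForm_self, sub_zero]

theorem formB_symm [CharP F 2] (a : ↥(Matrix.symplecticGroup (Fin m) F)) (h2 : a * a = 1)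
    (u v : Fin m ⊕ Fin m → F) : formB a u v = formB a v u := by
  set A := (a : Matrix (Fin m ⊕ Fin m) (Fin m ⊕ Fin m) F)
  have hAA : A * A = 1 := congrArg Subtype.val h2
  have h := (Symplectic.mem_iff_form A).1 a.2 u (A *ᵥ v)
  rw [Matrix.mulVec_mulVec, hAA, Matrix.one_mulVec] at h
  rw [formB_apply, formB_apply, nil_apply, nil_apply, Symplectic.sympForm_sub_right,
    Symplectic.sympForm_sub_right, Symplectic.sympForm_swap v (A *ᵥ u), h, Symplectic.sympForm_swap v u,
    CharTwo.neg_eq, CharTwo.neg_eq]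

theorem finrank_range_even [CharP F 2] (a : ↥(Matrix.symplecticGroup (Fin m) F)) (h2 : a * a = 1)
    (halt : ∀ v, formB a v v = 0) : Even (finrank F (LinearMap.range (nil a))) := by
  have hA : (formB a).IsAlt := halt
  obtain ⟨W, hWc⟩ := Submodule.exists_isCompl (LinearMap.ker (nil a))
  have hW : ∀ w ∈ W, (∀ v ∈ W, formB a w v = 0) → w = 0 := by
    intro w hw h
    refine Submodule.disjoint_def.mp hWc.disjoint w ?_ hw
    rw [LinearMap.mem_ker]
    refine eq_zero_of_sympForm fun u => ?_
    rw [← formB_apply, formB_symm a h2]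
    obtain ⟨r, hr, w', hw', rfl⟩ := Submodule.mem_sup.mp
      (hWc.sup_eq_top ▸ Submodule.mem_top : u ∈ LinearMap.ker (nil a) ⊔ W)
    rw [map_add, h w' hw', add_zero, formB_apply, LinearMap.mem_ker.1 hr, Symplectic.sympForm_zero_right]
  obtain ⟨k, e, f, he, hf, hef, hee, hff, hspan⟩ :=
    Forms.exists_symplectic_family (formB a) hA W hW
  have h1 := Forms.finrank_eq_of_symplectic_family (formB a) hA W e f he hf hef hee hff hspan
  have h2' := LinearMap.finrank_range_add_finrank_ker (nil a)
  have h3 := Submodule.finrank_add_eq_of_isCompl hWc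
  exact ⟨k, by omega⟩

theorem card_formB_self_zero [Fintype F] [CharP F 2] (a : ↥(Matrix.symplecticGroup (Fin m) F)) (h2 : a * a = 1) :
    Nat.card {v : Fin m ⊕ Fin m → F // formB a v v = 0} = Fintype.card F ^ (2 * m) ∨
      Nat.card {v : Fin m ⊕ Fin m → F // formB a v v = 0} * Fintype.card F = Fintype.card F ^ (2 * m) := by
  have hV : Nat.card (Fin m ⊕ Fin m → F) = Fintype.card F ^ (2 * m) := by
    rw [Nat.card_eq_fintype_card, Fintype.card_fun, Fintype.card_sum, Fintype.card_fin, two_mul]
  let φ : (Fin m ⊕ Fin m → F) →+ F := AddMonoidHom.mk' (fun v => formB a v v) (fun u v => by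
    simp only [map_add, LinearMap.add_apply]
    rw [formB_symm a h2 u v]
    linear_combination CharTwo.add_self_eq_zero (formB a v u))
  have hker : Nat.card {v : Fin m ⊕ Fin m → F // formB a v v = 0} = Nat.card φ.ker :=
    Nat.card_congr (Equiv.subtypeEquivRight fun v => Iff.rfl)
  rw [hker, ← hV, ← AddSubgroup.card_mul_index φ.ker, AddSubgroup.index_ker]
  by_cases h0 : ∀ v, formB a v v = 0
  · left
    have : φ.range = ⊥ := by
      rw [AddMonoidHom.range_eq_bot_iff]
      exact AddMonoidHom.ext h0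
    rw [this, AddSubgroup.card_bot, mul_one]
  · right
    push Not at h0
    obtain ⟨v₀, hv₀⟩ := h0
    have : φ.range = ⊤ := by
      refine top_le_iff.1 fun c _ => ?_
      obtain ⟨s, hs⟩ := (PerfectRing.bijective_frobenius (R := F) (p := 2)).2 (c / formB a v₀ v₀)
      refine ⟨s • v₀, ?_⟩
      show formB a (s • v₀) (s • v₀) = c
      simp only [map_smul, LinearMap.smul_apply, smul_eq_mul]
      have hs' : s ^ 2 = c / formB a v₀ v₀ := hs
      rw [← mul_assoc, ← sq, hs', div_mul_cancel₀ c hv₀]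
    rw [this, AddSubgroup.card_top, Nat.card_eq_fintype_card (α := F)]

end Cfsg.Agent.Invol2
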