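import Mathlib

/-!
Square-zero linear maps: normal form and conjugacy by maps of determinant one over perfect fields of
characteristic two; involutions of `SL_n`.
-/

set_option autoImplicit false

namespace Cfsg.Agent.Invol2

open Module

variable {F : Type*} [Field F] {V : Type*} [AddCommGroup V] [Module F V] [FiniteDimensional F V]

/-- Coordinates adapted to a square-zero map. -/
theorem exists_nilpotent_equiv (N : V →ₗ[F] V) (hN : N.comp N = 0) {l r : ℕ}
    (hl : finrank F (LinearMap.range N) = l) (hr : finrank F V = l + l + r) :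
    ∃ e : (((Fin l → F) × (Fin l → F)) × (Fin r → F)) ≃ₗ[F] V,
      ∀ p, N (e p) = e ((0, p.1.1), 0) := by
  have hle : LinearMap.range N ≤ LinearMap.ker N := by
    rintro _ ⟨x, rfl⟩
    exact LinearMap.mem_ker.2 (by rw [← LinearMap.comp_apply, hN]; rfl)
  obtain ⟨W, hW⟩ := Submodule.exists_isCompl (LinearMap.ker N)
  obtain ⟨U', hU'⟩ := Submodule.exists_isCompl ((LinearMap.range N).comap (LinearMap.ker N).subtype)
  set U : Submodule F V := U'.map (LinearMap.ker N).subtype with hU
  have hrk := LinearMap.finrank_range_add_finrank_ker N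
  have hWd : finrank F W = l := by
    have := Submodule.finrank_add_eq_of_isCompl hW
    omega
  have hUd : finrank F U = r := by
    rw [hU, Submodule.finrank_map_subtype_eq]
    have h1 := Submodule.finrank_add_eq_of_isCompl hU'
    have h2 : finrank F ((LinearMap.range N).comap (LinearMap.ker N).subtype) = l := by
      rw [← hl, ← Submodule.finrank_map_subtype_eq, Submodule.map_comap_subtype, inf_eq_right.2 hle]
    omega
  let wb : (Fin l → F) ≃ₗ[F] W := (finBasisOfFinrankEq F W hWd).equivFun.symm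
  let ub : (Fin r → F) ≃ₗ[F] U := (finBasisOfFinrankEq F U hUd).equivFun.symm
  let w : (Fin l → F) →ₗ[F] V := W.subtype.comp wb.toLinearMap
  let u : (Fin r → F) →ₗ[F] V := U.subtype.comp ub.toLinearMap
  let φ : (((Fin l → F) × (Fin l → F)) × (Fin r → F)) →ₗ[F] V :=
    (w.coprod (N.comp w)).coprod u
  have hNu : ∀ z, N (u z) = 0 := by
    intro z
    obtain ⟨⟨y, hy⟩, -, hy'⟩ := (ub z).2
    show N (ub z : V) = 0
    rw [← hy']
    exact LinearMap.mem_ker.1 hy
  have hNN : ∀ x, N (N x) = 0 := fun x => by rw [← LinearMap.comp_apply, hN]; rfl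
  have hinj : Function.Injective φ := by
    rw [injective_iff_map_eq_zero]
    rintro ⟨⟨x, y⟩, z⟩ h
    simp only [φ, LinearMap.coprod_apply, LinearMap.comp_apply] at h
    have hx : x = 0 := by
      have h1 := congrArg N h
      rw [map_add, map_add, hNN, hNu, add_zero, add_zero, map_zero] at h1
      have := Submodule.disjoint_def.mp hW.disjoint (w x) (LinearMap.mem_ker.2 h1) (wb x).2
      exact wb.injective ((Subtype.ext this).trans wb.map_zero.symm)
    subst hx
    rw [map_zero, zero_add] at h
    obtain ⟨⟨u', hu'⟩, hu'mem, hu'eq⟩ := (ub z).2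
    have h3 : (⟨u', hu'⟩ : LinearMap.ker N) = 0 := by
      refine Submodule.disjoint_def.mp hU'.disjoint _ ?_ hu'mem
      rw [Submodule.mem_comap]
      show u' ∈ LinearMap.range N
      have : u z = u' := hu'eq.symm
      rw [this] at h
      exact ⟨-(w y), by rw [map_neg]; exact neg_eq_of_add_eq_zero_right h⟩
    have hz : z = 0 := by
      refine ub.injective (Subtype.ext ?_)
      rw [map_zero, ← hu'eq, h3]
      simp
    subst hz
    rw [map_zero, add_zero] at h
    have := Submodule.disjoint_def.mp hW.disjoint (w y) (LinearMap.mem_ker.2 h) (wb y).2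
    have hy : y = 0 := wb.injective ((Subtype.ext this).trans wb.map_zero.symm)
    subst hy
    rfl
  have hdim : finrank F (((Fin l → F) × (Fin l → F)) × (Fin r → F)) = finrank F V := by
    simp [hr]
  refine ⟨LinearEquiv.ofBijective φ ⟨hinj, (LinearMap.injective_iff_surjective_of_finrank_eq_finrank hdim).1 hinj⟩,
    fun p => ?_⟩
  show N (φ p) = φ ((0, p.1.1), 0)
  simp [φ, hNN, hNu]

/-- Square-zero maps of equal rank are conjugate by a map of determinant one (perfect field of
characteristic two). -/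
theorem exists_conj_det_one [Finite F] [CharP F 2] (N M : V →ₗ[F] V) (hN : N.comp N = 0) (hM : M.comp M = 0)
    (hrk : finrank F (LinearMap.range N) = finrank F (LinearMap.range M))
    (hpos : 0 < finrank F (LinearMap.range N)) :
    ∃ g : V →ₗ[F] V, LinearMap.det g = 1 ∧ g.comp N = M.comp g := by
  set l := finrank F (LinearMap.range N) with hl
  have hle : LinearMap.range N ≤ LinearMap.ker N := by
    rintro _ ⟨x, rfl⟩
    exact LinearMap.mem_ker.2 (by rw [← LinearMap.comp_apply, hN]; rfl)
  have h2 : l + l ≤ finrank F V := by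
    have := LinearMap.finrank_range_add_finrank_ker N
    have := Submodule.finrank_mono hle
    omega
  obtain ⟨r, hr⟩ := Nat.exists_eq_add_of_le h2
  obtain ⟨eN, heN⟩ := exists_nilpotent_equiv N hN hl.symm hr
  obtain ⟨eM, heM⟩ := exists_nilpotent_equiv M hM hrk.symm hr
  let g0 : V ≃ₗ[F] V := eN.symm.trans eM
  obtain ⟨c, hc⟩ := (PerfectRing.bijective_frobenius (R := F) (p := 2)).2 (LinearMap.det g0.toLinearMap)⁻¹
  let i0 : Fin l := ⟨0, hpos⟩
  let C : (Fin l → F) →ₗ[F] (Fin l → F) :=
    Matrix.toLin' (Matrix.diagonal (fun i => if i = i0 then c else 1))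
  have hC : LinearMap.det C = c := by
    rw [LinearMap.det_toLin', Matrix.det_diagonal, Finset.prod_ite_eq']
    simp
  let D := (C.prodMap C).prodMap (LinearMap.id : (Fin r → F) →ₗ[F] (Fin r → F))
  let Dc : V →ₗ[F] V := (eM.toLinearMap.comp D).comp eM.symm.toLinearMap
  refine ⟨Dc.comp g0.toLinearMap, ?_, ?_⟩
  · rw [LinearMap.det_comp]
    have hD : LinearMap.det Dc = c ^ 2 := by
      rw [show Dc = ((eM : _ →ₗ[F] V).comp (D.comp (eM.symm : V →ₗ[F] _))) from rfl, LinearMap.det_conj, LinearMap.det_prodMap, LinearMap.det_prodMap, hC, LinearMap.det_id, mul_one, sq]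
    have hc' : c ^ 2 = (LinearMap.det g0.toLinearMap)⁻¹ := hc
    rw [hD, hc', inv_mul_cancel₀]
    exact (LinearEquiv.isUnit_det' g0).ne_zero
  · refine LinearMap.ext fun v => ?_
    obtain ⟨p, rfl⟩ := eN.surjective v
    have hg0 : ∀ q, g0 (eN q) = eM q := fun q => by simp [g0]
    simp only [LinearMap.comp_apply, LinearEquiv.coe_coe, heN, hg0, Dc, LinearEquiv.symm_apply_apply,
      heM, D, LinearMap.prodMap_apply, LinearMap.id_apply, map_zero]

/-- Involutions of `SL_n` over a finite field of characteristic two are conjugate iff their ranks agree. -/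
theorem isConj_iff_rank [Finite F] [CharP F 2] {n : ℕ} (a b : Matrix.SpecialLinearGroup (Fin n) F)
    (ha : orderOf a = 2) (hb : orderOf b = 2) :
    IsConj a b ↔ ((a : Matrix (Fin n) (Fin n) F) - 1).rank = ((b : Matrix (Fin n) (Fin n) F) - 1).rank := by
  have hsq : ∀ x : Matrix.SpecialLinearGroup (Fin n) F, orderOf x = 2 →
      ((x : Matrix (Fin n) (Fin n) F) - 1) * ((x : Matrix (Fin n) (Fin n) F) - 1) = 0 := by
    intro x hx
    have h1 : x * x = 1 := by rw [← sq, ← hx]; exact pow_orderOf_eq_one x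
    have h2 : (x : Matrix (Fin n) (Fin n) F) * (x : Matrix (Fin n) (Fin n) F) = 1 := by
      rw [← Matrix.SpecialLinearGroup.coe_mul, h1, Matrix.SpecialLinearGroup.coe_one]
    rw [Matrix.sub_mul, Matrix.mul_sub, Matrix.mul_sub, h2, Matrix.one_mul, Matrix.one_mul, Matrix.mul_one]
    ext i j
    simp only [Matrix.sub_apply, Matrix.zero_apply, CharTwo.sub_eq_add]
    linear_combination CharTwo.add_self_eq_zero ((1 : Matrix (Fin n) (Fin n) F) i j) +
      CharTwo.add_self_eq_zero ((x : Matrix (Fin n) (Fin n) F) i j)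
  constructor
  · intro h
    obtain ⟨g, hg⟩ := isConj_iff.1 h
    have hb' : (b : Matrix (Fin n) (Fin n) F) - 1 =
        (g : Matrix (Fin n) (Fin n) F) * ((a : Matrix (Fin n) (Fin n) F) - 1) * (g⁻¹ : Matrix.SpecialLinearGroup (Fin n) F) := by
      rw [← hg, Matrix.SpecialLinearGroup.coe_mul, Matrix.SpecialLinearGroup.coe_mul, Matrix.mul_sub,
        Matrix.sub_mul, Matrix.mul_one, ← Matrix.SpecialLinearGroup.coe_mul g g⁻¹, mul_inv_cancel,
        Matrix.SpecialLinearGroup.coe_one]
    rw [hb', Matrix.rank_mul_eq_left_of_det_ne_zero _ _ (by rw [Matrix.SpecialLinearGroup.det_coe]; exact one_ne_zero), Matrix.rank_mul_eq_right_of_det_ne_zero _ _ (by rw [Matrix.SpecialLinearGroup.det_coe]; exact one_ne_zero)]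
  · intro h
    set N := Matrix.toLin' ((a : Matrix (Fin n) (Fin n) F) - 1) with hN
    set M := Matrix.toLin' ((b : Matrix (Fin n) (Fin n) F) - 1) with hM
    have hpos : 0 < finrank F (LinearMap.range N) := by
      rw [Nat.pos_iff_ne_zero, Ne, Submodule.finrank_eq_zero, LinearMap.range_eq_bot, hN,
        LinearEquiv.map_eq_zero_iff, sub_eq_zero]
      intro h1
      have : a = 1 := Subtype.ext h1
      rw [this, orderOf_one] at ha
      omega
    obtain ⟨g, hg1, hg2⟩ := exists_conj_det_one N M
      (by rw [hN, ← Matrix.toLin'_mul, hsq a ha, map_zero])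
      (by rw [hM, ← Matrix.toLin'_mul, hsq b hb, map_zero]) h hpos
    let gm : Matrix.SpecialLinearGroup (Fin n) F :=
      ⟨LinearMap.toMatrix' g, by rw [LinearMap.det_toMatrix', hg1]⟩
    refine isConj_iff.2 ⟨gm, ?_⟩
    rw [mul_inv_eq_iff_eq_mul]
    refine Subtype.ext (Matrix.toLin'.injective ?_)
    show Matrix.toLin' (LinearMap.toMatrix' g * (a : Matrix (Fin n) (Fin n) F)) =
      Matrix.toLin' ((b : Matrix (Fin n) (Fin n) F) * LinearMap.toMatrix' g)
    rw [Matrix.toLin'_mul, Matrix.toLin'_mul, Matrix.toLin'_toMatrix']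
    have e : ∀ x : Matrix (Fin n) (Fin n) F, Matrix.toLin' x = Matrix.toLin' (x - 1) + LinearMap.id := by
      intro x
      rw [← Matrix.toLin'_one, ← map_add, sub_add_cancel]
    rw [e a, e b, LinearMap.comp_add, LinearMap.add_comp, ← hN, ← hM, hg2, LinearMap.comp_id, LinearMap.id_comp]

end Cfsg.Agent.Invol2
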